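import Cfsg.Agent.H886.BR.Cls

/-!
# HUB BR (S5715, S5716): density of random subgroups (helper886)

`dens_fix` (A3) and `dens_conj` (A2): for all but `C / q` of the pairs, the subgroup `⟨g, y⟩` (resp. `⟨x, x ^ y⟩`) has the
same invariant subspaces as `G`.
-/

set_option autoImplicit false

namespace Cfsg.Agent.H886.BR

open Cfsg.Agent.H883.BR

universe u v w

section gen

variable {K : Type*} [Field K] {G : Type*} [Group G] [Finite G] {V : Type*} [AddCommGroup V] [Module K V]
  [FiniteDimensional K V]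

omit [Finite G] in
/-- independent elements of the span of `R G` in the span of `R H` -/
theorem dns_of_indep {R : G →* Module.End K V} {H : Subgroup G} {r : ℕ} (hr : r = Module.finrank K
    (Submodule.span K (Set.range R))) {h : Fin r → G} (hh : ∀ i, h i ∈ H)
    (hli : LinearIndependent K fun i => R (h i)) : Dns R H := by
  intro U hU g _ v hv
  have h1 : Submodule.span K (Set.range fun i => R (h i)) = Submodule.span K (Set.range R) := by
    apply Submodule.eq_of_le_of_finrank_eq
    · refine Submodule.span_mono ?_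
      rintro _ ⟨i, rfl⟩
      exact ⟨h i, rfl⟩
    · rw [finrank_span_eq_card hli, Fintype.card_fin, hr]
  let T : Submodule K (Module.End K V) :=
    { carrier := {X | ∀ u ∈ U, X u ∈ U}
      zero_mem' := fun u _ => U.zero_mem
      add_mem' := fun {X Y} hX hY u hu => U.add_mem (hX u hu) (hY u hu)
      smul_mem' := fun c X hX u hu => U.smul_mem c (hX u hu) }
  have h2 : Submodule.span K (Set.range fun i => R (h i)) ≤ T := by
    refine Submodule.span_le.2 ?_
    rintro _ ⟨i, rfl⟩ u hu
    exact hU (h i) (hh i) u hu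
  have h3 : R g ∈ T := by
    apply h2
    rw [h1]
    exact Submodule.subset_span ⟨g, rfl⟩
  exact h3 v hv

/-- **the general theorem** -/
theorem dens_gen {Γ : Type*} [Group Γ] [Finite Γ] {F : Subfield K} [Finite F] {ι : Type*} {x : ι → F → Γ}
    (hx : OneP F x) {E : Submodule K (Γ → K)} (h1 : (1 : Γ → K) ∈ E)
    (hE : ∀ f ∈ E, ∀ i t, (fun g => f (g * x i t)) ∈ E) {D : ℕ}
    (hD : ∀ f ∈ E, ∀ g i, ∃ p : Polynomial K, p.natDegree ≤ D ∧ ∀ t : F, f (g * x i t) = p.eval (t : K))
    {M : ℕ} (hM : Module.finrank K E ≤ M) (R : G →* Module.End K V) {m : ℕ} (hm : Module.finrank K V ≤ m)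
    {a b : Γ → G} {c : ℕ} (ha : Cls E c fun z => R (a z)) (hb : Cls E c fun z => R (b z)) {z₀ : Γ}
    (hz : Subgroup.closure {a z₀, b z₀} = ⊤) :
    Nat.card F * Nat.card {z : Γ // ¬ Dns R (Subgroup.closure {a z, b z})} ≤
      c * m ^ 2 * m ^ 2 * D * M ^ (c * m ^ 2 * m ^ 2) * Nat.card Γ := by
  classical
  have hEnd : Module.finrank K (Module.End K V) ≤ m ^ 2 := by
    rw [Module.finrank_linearMap, pow_two]
    exact Nat.mul_le_mul hm hm
  -- words of length at most `m ^ 2`
  let s : Set (Module.End K V) := {Z | ∃ w' : List Bool, w'.length ≤ m ^ 2 ∧ Z = wd (R (a z₀)) (R (b z₀)) w'}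
  have hs : Submodule.span K s = Submodule.span K (Set.range R) := by
    apply le_antisymm
    · refine Submodule.span_mono ?_
      rintro _ ⟨w', -, rfl⟩
      exact ⟨wd (a z₀) (b z₀) w', map_wd R _ _ _⟩
    · refine Submodule.span_le.2 ?_
      rintro _ ⟨g, rfl⟩
      obtain ⟨w', rfl⟩ := exists_wd (a := a z₀) (b := b z₀) (g := g) (by rw [hz]; exact Subgroup.mem_top g)
      rw [map_wd]
      exact wd_mem_span _ _ hEnd w'
  obtain ⟨f, hf, hfs, hli⟩ := Submodule.exists_fun_fin_finrank_span_eq K s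
  generalize hr : Module.finrank K (Submodule.span K s) = r at f hf hfs hli
  choose W hW hfW using hf
  have hrm : r ≤ m ^ 2 := by
    rw [← hr]
    exact (Submodule.finrank_le _).trans hEnd
  -- the functionals
  have hker : LinearMap.ker (Fintype.linearCombination K f) = ⊥ := by
    rw [LinearMap.ker_eq_bot']
    intro α hα
    rw [Fintype.linearCombination_apply] at hα
    funext i
    exact Fintype.linearIndependent_iff.1 hli α hα i
  obtain ⟨L, hL⟩ := LinearMap.exists_leftInverse_of_injective _ hker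
  have hLf : ∀ j, L (f j) = Pi.single j 1 := by
    intro j
    have h2 := LinearMap.congr_fun hL (Pi.single j 1)
    rw [LinearMap.comp_apply, Fintype.linearCombination_apply_single, one_smul] at h2
    exact h2
  let A : Γ → Matrix (Fin r) (Fin r) K := fun z => Matrix.of fun i j => L (R (wd (a z) (b z) (W j))) i
  have hA : ∀ z i j, A z i j = L (R (wd (a z) (b z) (W j))) i := fun z i j => rfl
  have hdet0 : (A z₀).det ≠ 0 := by
    have h2 : A z₀ = 1 := by
      ext i j
      rw [hA, map_wd, ← hfW, hLf, Matrix.one_apply, Pi.single_apply]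
    rw [h2, Matrix.det_one]
    exact one_ne_zero
  have hcls : (fun z => (A z).det) ∈ E ^ (c * m ^ 2 * m ^ 2) := by
    refine pow_mono_right h1 (Nat.mul_le_mul_left _ hrm) (det_mem fun i j => ?_)
    have h2 : Cls E (c * m ^ 2) fun z => R (wd (a z) (b z) (W j)) := by
      have h3 := (ha.wd hb (W j)).mono h1 (Nat.mul_le_mul_left c (hW j))
      have e : (fun z => wd (R (a z)) (R (b z)) (W j)) = fun z => R (wd (a z) (b z) (W j)) := by
        funext z
        rw [map_wd]
      rwa [e] at h3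
    exact h2 (LinearMap.proj i ∘ₗ L)
  have h3 := sz_pow hx hE hD hM hcls ⟨z₀, hdet0⟩
  refine le_trans (Nat.mul_le_mul_left _ ?_) h3
  -- the non-dense ones
  refine Nat.card_le_card_of_injective (fun z : {z : Γ // ¬ Dns R (Subgroup.closure {a z, b z})} =>
    (⟨z.1, ?_⟩ : {z : Γ // (A z).det = 0})) ?_
  · by_contra hdet
    apply z.2
    apply dns_of_indep (r := r) (by rw [← hr, hs]) (h := fun j => wd (a z.1) (b z.1) (W j))
      (fun j => wd_mem _ _ _)
    apply LinearIndependent.of_comp L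
    have h4 := Matrix.linearIndependent_cols_of_det_ne_zero hdet
    exact h4
  · intro z z' h
    exact Subtype.ext (congrArg (fun y => y.1) h)

end gen

/-! ## the coefficient space -/

section coef

variable {K : Type*} [Field K] {Γ : Type*} {A : Type*} [AddCommGroup A] [Module K A] {s : ℕ}

/-- `(c, l) ↦ (z ↦ c + ∑ k, l k (Θ k z))` -/
def coef (Θ : Fin s → Γ → A) : (K × (Fin s → Module.Dual K A)) →ₗ[K] (Γ → K) where
  toFun p := fun z => p.1 + ∑ k, p.2 k (Θ k z)
  map_add' p q := by
    funext z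
    simp only [Prod.fst_add, Prod.snd_add, Pi.add_apply, LinearMap.add_apply, Finset.sum_add_distrib]
    ring
  map_smul' c p := by
    funext z
    simp only [Prod.smul_fst, Prod.smul_snd, Pi.smul_apply, LinearMap.smul_apply, smul_eq_mul, RingHom.id_apply,
      mul_add, Finset.mul_sum]

theorem coef_apply (Θ : Fin s → Γ → A) (p : K × (Fin s → Module.Dual K A)) (z : Γ) :
    coef Θ p z = p.1 + ∑ k, p.2 k (Θ k z) := rfl

theorem one_mem_coef (Θ : Fin s → Γ → A) : (1 : Γ → K) ∈ LinearMap.range (coef (K := K) Θ) := by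
  refine ⟨(1, 0), ?_⟩
  funext z
  rw [coef_apply]
  simp

theorem cls_coef (Θ : Fin s → Γ → A) (k : Fin s) : Cls (LinearMap.range (coef (K := K) Θ)) 1 (Θ k) := by
  classical
  intro l
  rw [pow_one]
  refine ⟨(0, fun j => if j = k then l else 0), ?_⟩
  funext z
  rw [coef_apply, zero_add, Finset.sum_eq_single k]
  · show (if k = k then l else 0) (Θ k z) = _
    rw [if_pos rfl]
  · intro j _ hj
    show (if j = k then l else 0) (Θ j z) = 0
    rw [if_neg hj, LinearMap.zero_apply]
  · intro h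
    exact absurd (Finset.mem_univ k) h

theorem finrank_coef [Module.Finite K A] (Θ : Fin s → Γ → A) :
    Module.finrank K (LinearMap.range (coef (K := K) Θ)) ≤ 1 + s * Module.finrank K A := by
  refine (LinearMap.finrank_range_le _).trans ?_
  rw [Module.finrank_prod, Module.finrank_self, Module.finrank_pi_fintype, Finset.sum_const, Finset.card_univ,
    Fintype.card_fin, smul_eq_mul, Subspace.dual_finrank_eq]

theorem coef_trn [Group Γ] (Θ : Fin s → Γ → A) {h : Γ} (hΘ : ∀ k, ∃ T : A →ₗ[K] A, ∀ z, Θ k (z * h) = T (Θ k z)) :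
    ∀ f ∈ LinearMap.range (coef (K := K) Θ), (fun g => f (g * h)) ∈ LinearMap.range (coef (K := K) Θ) := by
  rintro _ ⟨p, rfl⟩
  choose T hT using hΘ
  refine ⟨(p.1, fun k => p.2 k ∘ₗ T k), ?_⟩
  funext z
  rw [coef_apply, coef_apply]
  congr 1
  refine Finset.sum_congr rfl fun k _ => ?_
  rw [hT, LinearMap.comp_apply]

theorem coef_poly [Group Γ] {F : Subfield K} (Θ : Fin s → Γ → A) {y : F → Γ} {z : Γ} {e : ℕ}
    (hΘ : ∀ k, ∃ c : ℕ → A, ∀ t : F, Θ k (z * y t) = ∑ j ∈ Finset.range (e + 1), (t : K) ^ j • c j) :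
    ∀ f ∈ LinearMap.range (coef (K := K) Θ), ∃ p : Polynomial K, p.natDegree ≤ e ∧ ∀ t : F,
      f (z * y t) = p.eval (t : K) := by
  rintro _ ⟨p, rfl⟩
  choose c hc using hΘ
  refine ⟨Polynomial.C p.1 + ∑ k, ∑ j ∈ Finset.range (e + 1), Polynomial.C (p.2 k (c k j)) * Polynomial.X ^ j,
    ?_, fun t => ?_⟩
  · refine (Polynomial.natDegree_add_le _ _).trans (max_le ?_ ?_)
    · rw [Polynomial.natDegree_C]; exact Nat.zero_le _
    · refine Polynomial.natDegree_sum_le_of_forall_le _ _ fun k _ => ?_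
      refine Polynomial.natDegree_sum_le_of_forall_le _ _ fun j hj => ?_
      refine (Polynomial.natDegree_C_mul_X_pow_le _ _).trans ?_
      rw [Finset.mem_range] at hj
      omega
  · rw [coef_apply, Polynomial.eval_add, Polynomial.eval_C, Polynomial.eval_finsetSum]
    congr 1
    refine Finset.sum_congr rfl fun k _ => ?_
    rw [hc, map_sum, Polynomial.eval_finsetSum]
    refine Finset.sum_congr rfl fun j _ => ?_
    rw [map_smul, smul_eq_mul, Polynomial.eval_mul, Polynomial.eval_C, Polynomial.eval_pow, Polynomial.eval_X,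
      mul_comm]

end coef

section one

variable {K : Type*} [Field K] {F : Subfield K} {G : Type*} [Group G] {ι : Type*} {x : ι → F → G}

theorem oneP_zero (hx : OneP F x) (i : ι) : x i 0 = 1 := by
  have h1 := hx.add i 0 0
  rw [add_zero] at h1
  exact mul_eq_left.1 h1.symm

theorem oneP_inv (hx : OneP F x) (i : ι) (t : F) : (x i t)⁻¹ = x i (-t) := by
  rw [inv_eq_iff_mul_eq_one, ← hx.add, add_neg_cancel, oneP_zero hx]

/-- the one-parameter subgroups of `G × G` -/
def xx (x : ι → F → G) : ι ⊕ ι → F → G × G := Sum.elim (fun i t => (x i t, 1)) (fun i t => (1, x i t))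

theorem oneP_prod (hx : OneP F x) : OneP F (xx x) := by
  refine ⟨?_, ?_⟩
  · rintro (i | i) s t
    · show (x i (s + t), (1 : G)) = (x i s, 1) * (x i t, 1)
      rw [hx.add, Prod.mk_mul_mk, mul_one]
    · show ((1 : G), x i (s + t)) = (1, x i s) * (1, x i t)
      rw [hx.add, Prod.mk_mul_mk, mul_one]
  · set S := Subgroup.closure {g : G × G | ∃ i t, xx x i t = g} with hS
    have h1 : Subgroup.closure {g : G | ∃ i t, x i t = g} ≤ S.comap (MonoidHom.inl G G) := by
      rw [Subgroup.closure_le]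
      rintro _ ⟨i, t, rfl⟩
      exact Subgroup.subset_closure ⟨Sum.inl i, t, rfl⟩
    have h2 : Subgroup.closure {g : G | ∃ i t, x i t = g} ≤ S.comap (MonoidHom.inr G G) := by
      rw [Subgroup.closure_le]
      rintro _ ⟨i, t, rfl⟩
      exact Subgroup.subset_closure ⟨Sum.inr i, t, rfl⟩
    rw [hx.gen] at h1 h2
    rw [eq_top_iff]
    rintro ⟨g, h⟩ -
    have h3 : MonoidHom.inl G G g ∈ S := h1 (Subgroup.mem_top g)
    have h4 : MonoidHom.inr G G h ∈ S := h2 (Subgroup.mem_top h)
    have h5 := S.mul_mem h3 h4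
    rwa [MonoidHom.inl_apply, MonoidHom.inr_apply, Prod.mk_mul_mk, mul_one, one_mul] at h5

end one

/-- A3 -/
theorem dens_fix (m e : ℕ) : ∃ C : ℕ, ∀ (K : Type u) [Field K] (F : Subfield K) [Finite F] (G : Type w) [Group G]
    [Finite G] (ι : Type w) (x : ι → F → G) (V : Type u) [AddCommGroup V] [Module K V] [FiniteDimensional K V]
    (R : G →* Module.End K V), Module.finrank K V ≤ m → OneP F x → PolyDeg R F x e →
    ∀ g : G, (∃ y0 : G, Subgroup.closure {g, y0} = ⊤) →
    Nat.card F * Nat.card {y : G // ¬ Dns R (Subgroup.closure {g, y})} ≤ C * Nat.card G := by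
  refine ⟨1 * m ^ 2 * m ^ 2 * e * (1 + 1 * m ^ 2) ^ (1 * m ^ 2 * m ^ 2), ?_⟩
  intro K _ F _ G _ _ ι x V _ _ _ R hm hx hp g ⟨y0, hy0⟩
  let Θ : Fin 1 → G → Module.End K V := fun _ y => R y
  have hEnd : Module.finrank K (Module.End K V) ≤ m ^ 2 := by
    rw [Module.finrank_linearMap, pow_two]
    exact Nat.mul_le_mul hm hm
  have h1 := one_mem_coef (K := K) Θ
  refine dens_gen hx (E := LinearMap.range (coef (K := K) Θ)) h1 (fun f hf i t => coef_trn Θ (fun _ =>
    ⟨LinearMap.mulRight K (R (x i t)), fun z => map_mul R z (x i t)⟩) f hf)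
    (fun f hf z i => coef_poly Θ (fun _ => ?_) f hf) ((finrank_coef Θ).trans (by gcongr)) R hm
    (a := fun _ => g) (b := fun y => y) ((cls_const _ _).mono h1 (Nat.zero_le 1)) (cls_coef Θ 0) (z₀ := y0) hy0
  obtain ⟨c, hc⟩ := hp i
  refine ⟨fun j => R z * c j, fun t => ?_⟩
  show R (z * x i t) = _
  rw [map_mul, hc, Finset.mul_sum]
  exact Finset.sum_congr rfl fun j _ => mul_smul_comm _ _ _

/-- A2 -/
theorem dens_conj (m e : ℕ) : ∃ C : ℕ, ∀ (K : Type u) [Field K] (F : Subfield K) [Finite F] (G : Type w) [Group G]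
    [Finite G] (ι : Type w) (x : ι → F → G) (V : Type u) [AddCommGroup V] [Module K V] [FiniteDimensional K V]
    (R : G →* Module.End K V), Module.finrank K V ≤ m → OneP F x → PolyDeg R F x e →
    (∃ x0 y0 : G, Subgroup.closure {x0, y0 * x0 * y0⁻¹} = ⊤) →
    Nat.card F * Nat.card {z : G × G // ¬ Dns R (Subgroup.closure {z.1, z.2 * z.1 * z.2⁻¹})} ≤
      C * Nat.card G ^ 2 := by
  refine ⟨3 * m ^ 2 * m ^ 2 * e * (1 + 3 * m ^ 2) ^ (3 * m ^ 2 * m ^ 2), ?_⟩
  intro K _ F _ G _ _ ι x V _ _ _ R hm hx hp ⟨x0, y0, h0⟩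
  let Θ : Fin 3 → G × G → Module.End K V := ![fun z => R z.1, fun z => R z.2, fun z => R z.2⁻¹]
  have hΘ0 : ∀ z, Θ 0 z = R z.1 := fun z => rfl
  have hΘ1 : ∀ z, Θ 1 z = R z.2 := fun z => rfl
  have hΘ2 : ∀ z, Θ 2 z = R z.2⁻¹ := fun z => rfl
  have hEnd : Module.finrank K (Module.End K V) ≤ m ^ 2 := by
    rw [Module.finrank_linearMap, pow_two]
    exact Nat.mul_le_mul hm hm
  have h1 := one_mem_coef (K := K) Θ
  have hconst' : ∀ X : Module.End K V, ∃ c : ℕ → Module.End K V, ∀ t : F,
      X = ∑ j ∈ Finset.range (e + 1), (t : K) ^ j • c j := by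
    intro X
    refine ⟨fun j => if j = 0 then X else 0, fun t => ?_⟩
    rw [Finset.sum_eq_single 0]
    · show X = (t : K) ^ 0 • (if 0 = 0 then X else 0)
      rw [pow_zero, one_smul, if_pos rfl]
    · intro j _ hj
      show (t : K) ^ j • (if j = 0 then X else 0) = 0
      rw [if_neg hj, smul_zero]
    · intro h
      exact absurd (Finset.mem_range.2 (Nat.succ_pos e)) h
  have hpow : Nat.card (G × G) = Nat.card G ^ 2 := by rw [Nat.card_prod, pow_two]
  rw [← hpow]
  have hc1 : Cls (LinearMap.range (coef (K := K) Θ)) 3 fun z : G × G => R z.1 :=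
    (cls_coef (K := K) Θ 0).mono h1 (by norm_num)
  have hc2 : Cls (LinearMap.range (coef (K := K) Θ)) 3 fun z : G × G => R (z.2 * z.1 * z.2⁻¹) := by
    have h2 := ((cls_coef (K := K) Θ 1).mul (cls_coef (K := K) Θ 0)).mul (cls_coef (K := K) Θ 2)
    have e : (fun z => Θ 1 z * Θ 0 z * Θ 2 z) = fun z : G × G => R (z.2 * z.1 * z.2⁻¹) := by
      funext z
      rw [hΘ0, hΘ1, hΘ2, map_mul, map_mul]
    rwa [e] at h2
  refine dens_gen (oneP_prod hx) (E := LinearMap.range (coef (K := K) Θ)) h1 (fun f hf i t => coef_trn Θ ?_ f hf)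
    (fun f hf z i => coef_poly Θ ?_ f hf) ((finrank_coef Θ).trans (by gcongr)) R hm
    (a := fun z => z.1) (b := fun z => z.2 * z.1 * z.2⁻¹) hc1 hc2 (z₀ := (x0, y0)) h0
  · intro k
    rcases i with i | i
    · fin_cases k
      · exact ⟨LinearMap.mulRight K (R (x i t)), fun z => map_mul R z.1 (x i t)⟩
      · refine ⟨LinearMap.id, fun z => ?_⟩
        show R (z.2 * 1) = R z.2
        rw [mul_one]
      · refine ⟨LinearMap.id, fun z => ?_⟩
        show R (z.2 * 1)⁻¹ = R z.2⁻¹
        rw [mul_one]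
    · fin_cases k
      · refine ⟨LinearMap.id, fun z => ?_⟩
        show R (z.1 * 1) = R z.1
        rw [mul_one]
      · exact ⟨LinearMap.mulRight K (R (x i t)), fun z => map_mul R z.2 (x i t)⟩
      · refine ⟨LinearMap.mulLeft K (R (x i t)⁻¹), fun z => ?_⟩
        show R (z.2 * x i t)⁻¹ = R (x i t)⁻¹ * R z.2⁻¹
        rw [mul_inv_rev, map_mul]
  · intro k
    rcases i with i | i
    · fin_cases k
      · obtain ⟨c, hc⟩ := hp i
        refine ⟨fun j => R z.1 * c j, fun t => ?_⟩
        show R (z.1 * x i t) = _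
        rw [map_mul, hc, Finset.mul_sum]
        exact Finset.sum_congr rfl fun j _ => mul_smul_comm _ _ _
      · obtain ⟨c, hc⟩ := hconst' (R z.2)
        refine ⟨c, fun t => ?_⟩
        show R (z.2 * 1) = _
        rw [mul_one]
        exact hc t
      · obtain ⟨c, hc⟩ := hconst' (R z.2⁻¹)
        refine ⟨c, fun t => ?_⟩
        show R (z.2 * 1)⁻¹ = _
        rw [mul_one]
        exact hc t
    · fin_cases k
      · obtain ⟨c, hc⟩ := hconst' (R z.1)
        refine ⟨c, fun t => ?_⟩
        show R (z.1 * 1) = _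
        rw [mul_one]
        exact hc t
      · obtain ⟨c, hc⟩ := hp i
        refine ⟨fun j => R z.2 * c j, fun t => ?_⟩
        show R (z.2 * x i t) = _
        rw [map_mul, hc, Finset.mul_sum]
        exact Finset.sum_congr rfl fun j _ => mul_smul_comm _ _ _
      · obtain ⟨c, hc⟩ := hp i
        refine ⟨fun j => (-1 : K) ^ j • (c j * R z.2⁻¹), fun t => ?_⟩
        show R (z.2 * x i t)⁻¹ = _
        rw [mul_inv_rev, map_mul, oneP_inv hx, hc, Finset.sum_mul]
        refine Finset.sum_congr rfl fun j _ => ?_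
        rw [smul_mul_assoc, smul_smul, show (((-t : F) : F) : K) = -(t : K) from rfl, neg_pow, mul_comm]

end Cfsg.Agent.H886.BR
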