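import Cfsg.Agent.H94.BR.SpBasic
import Cfsg.Agent.H487.BR.TPrim

/-!
# HUB BR (S5715, S5716), family `Sp_{2m}(2^f)`, task T1d (helper886)

* `irr_V` : `V` is irreducible;
* `tprim_V` : `V` is primitive and tensor-indecomposable (`TPrim`), from the rank one root elements `sq B v`.
-/

set_option autoImplicit false

namespace Cfsg.Agent.H886.BR

open Cfsg.Agent.H883.BR Cfsg.Agent.H94.BR

section

variable {m q : ℕ} {K : Type} [Field K] {F : Subfield K} {V : Type} [AddCommGroup V] [Module K V]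
  {B : LinearMap.BilinForm K V} {G : Type} [Group G] {ρ : G →* Module.End K V}
  {b : Module.Basis (Fin m ⊕ Fin m) K V}

/-- some basis vector is not orthogonal to `v ≠ 0` -/
theorem exists_basis_ne (D : SpD m q F B ρ b) {v : V} (hv : v ≠ 0) : ∃ k, B v (b k) ≠ 0 := by
  by_contra hcon
  push Not at hcon
  apply hv
  refine b.repr.map_eq_zero_iff.1 (Finsupp.ext fun i => ?_)
  rcases i with i | i
  · rw [← B_inr D, hcon]; rfl
  · rw [← B_inl D, hcon]; rfl

theorem B_basis (D : SpD m q F B ρ b) (k i : Fin m ⊕ Fin m) : B (b k) (b i) = if k = Sum.swap i then 1 else 0 := by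
  classical
  rcases i with i | i
  · rw [B_inl D, b.repr_self, Finsupp.single_apply]
    rfl
  · rw [B_inr D, b.repr_self, Finsupp.single_apply]
    rfl

/-- the transvection `1 + sq v` applied to `u` -/
theorem mem_of_tv (D : SpD m q F B ρ b) {U : Submodule K V} (hU : Inv ρ ⊤ U) {u v : V} (hu : u ∈ U)
    (hv : Rat F b v) (h : B v u ≠ 0) : v ∈ U := by
  obtain ⟨g, hg⟩ := D.tv v hv
  have h1 := hU g (Subgroup.mem_top g) u hu
  rw [hg, LinearMap.add_apply, Module.End.one_apply, sq_apply] at h1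
  have h2 := U.sub_mem h1 hu
  rw [add_sub_cancel_left] at h2
  have h3 := U.smul_mem (B v u)⁻¹ h2
  rwa [smul_smul, inv_mul_cancel₀ h, one_smul] at h3

/-- **`V` is irreducible** -/
theorem irr_V (D : SpD m q F B ρ b) : Irr ρ ⊤ := by
  classical
  have hm := D.two_le
  refine ⟨⟨b (Sum.inl ⟨0, by omega⟩), 0, b.ne_zero _⟩, fun U hU => ?_⟩
  by_cases hbot : U = ⊥
  · exact Or.inl hbot
  right
  obtain ⟨u, hu, hu0⟩ := Submodule.exists_mem_ne_zero_of_ne_bot hbot
  obtain ⟨i, hi⟩ := exists_basis_ne D hu0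
  have h1 : b i ∈ U := mem_of_tv D hU hu (rat_basis i) (by rwa [symmB D])
  have h2 : b (Sum.swap i) ∈ U := mem_of_tv D hU h1 (rat_basis _) (by
    rw [B_basis D, if_pos rfl]
    exact one_ne_zero)
  have h3 : ∀ k, b k ∈ U := by
    intro k
    by_cases hk : k = Sum.swap i
    · rw [hk]; exact h2
    · have h4 : b k + b (Sum.swap i) ∈ U := mem_of_tv D hU h1 ((rat_basis k).add (rat_basis _)) (by
        rw [map_add, LinearMap.add_apply, B_basis D, B_basis D, if_neg hk, if_pos rfl, zero_add]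
        exact one_ne_zero)
      have h5 := U.sub_mem h4 h2
      rwa [add_sub_cancel_right] at h5
  rw [eq_top_iff, ← b.span_eq, Submodule.span_le]
  rintro _ ⟨k, rfl⟩
  exact h3 k

theorem three_le (D : SpD m q F B ρ b) : 3 ≤ Nat.card F := by
  rw [D.cardF]
  exact le_trans (by norm_num) D.four_le

/-- every element of `F` is a square -/
theorem exists_sqrt (D : SpD m q F B ρ b) {t : K} (ht : t ∈ F) : ∃ s ∈ F, s ^ 2 = t := by
  have := D.finF
  have := D.char
  have hc : CharP F 2 := (RingHom.charP_iff F.subtype F.subtype.injective 2).2 D.char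
  obtain ⟨s, hs⟩ := Finite.surjective_of_injective (frobenius_inj F 2) ⟨t, ht⟩
  refine ⟨s, s.2, ?_⟩
  have h1 := congrArg (fun x : F => (x : K)) hs
  rw [frobenius_def] at h1
  exact h1

theorem rt_sq (D : SpD m q F B ρ b) {v : V} (hv : Rat F b v) : Rt ρ F ⊤ (sq B v) := by
  refine ⟨?_, fun t ht => ?_⟩
  · refine LinearMap.ext fun x => ?_
    rw [Module.End.mul_apply, sq_apply, sq_apply, map_smul, D.alt, smul_zero, zero_smul]
    rfl
  · obtain ⟨s, hs, rfl⟩ := exists_sqrt D ht
    obtain ⟨g, hg⟩ := D.tv (s • v) (hv.smul hs)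
    exact ⟨g, Subgroup.mem_top g, by rw [hg, sq_smul]⟩

theorem sq_eq_zero (D : SpD m q F B ρ b) {v : V} : sq B v = 0 ↔ v = 0 := by
  constructor
  · intro h
    by_contra hv
    obtain ⟨k, hk⟩ := exists_basis_ne D hv
    have h1 := LinearMap.congr_fun h (b k)
    rw [sq_apply, LinearMap.zero_apply, smul_eq_zero] at h1
    exact h1.elim hk hv
  · rintro rfl
    refine LinearMap.ext fun x => ?_
    rw [sq_apply, smul_zero]
    rfl

theorem conn (D : SpD m q F B ρ b) {v w : V} (hv : v ≠ 0) (hw : w ≠ 0) :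
    ∃ z, Rat F b z ∧ B v z ≠ 0 ∧ B w z ≠ 0 := by
  obtain ⟨k, hk⟩ := exists_basis_ne D hv
  obtain ⟨l, hl⟩ := exists_basis_ne D hw
  by_cases h1 : B w (b k) = 0
  · by_cases h2 : B v (b l) = 0
    · refine ⟨b k + b l, (rat_basis k).add (rat_basis l), ?_, ?_⟩
      · rwa [map_add, h2, add_zero]
      · rwa [map_add, h1, zero_add]
    · exact ⟨b l, rat_basis l, h2, hl⟩
  · exact ⟨b k, rat_basis k, hk, h1⟩

/-- **`TPrim`** -/
theorem tprim_V (D : SpD m q F B ρ b) : TPrim ρ := by
  classical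
  have := D.finF
  have h3 := three_le D
  have hm := D.two_le
  refine Cfsg.Agent.H487.BR.tprim_of_rank_one h3 {a | ∃ v, Rat F b v ∧ a = sq B v} ?_ ?_ ?_
  · rintro _ ⟨v, hv, rfl⟩
    exact ⟨rt_sq D hv, v, B v, fun y => sq_apply B v y⟩
  · intro X hX
    have h1 : ∀ v, Rat F b v → ∃ c : K, X v = c • v := by
      intro v hv
      by_cases hv0 : v = 0
      · exact ⟨0, by rw [hv0, map_zero, smul_zero]⟩
      obtain ⟨k, hk⟩ := exists_basis_ne D hv0
      have h2 := LinearMap.congr_fun (hX _ ⟨v, hv, rfl⟩) (b k)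
      rw [Module.End.mul_apply, Module.End.mul_apply, sq_apply, sq_apply, map_smul] at h2
      refine ⟨(B v (b k))⁻¹ * B v (X (b k)), ?_⟩
      rw [mul_smul, h2, smul_smul, inv_mul_cancel₀ hk, one_smul]
    let k0 : Fin m ⊕ Fin m := Sum.inl ⟨0, by omega⟩
    obtain ⟨c, hc⟩ := h1 (b k0) (rat_basis k0)
    refine ⟨c, b.ext fun l => ?_⟩
    rw [LinearMap.smul_apply, Module.End.one_apply]
    by_cases hl : l = k0
    · rw [hl, hc]
    obtain ⟨d, hd⟩ := h1 (b l) (rat_basis l)
    obtain ⟨e, he⟩ := h1 (b k0 + b l) ((rat_basis k0).add (rat_basis l))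
    rw [map_add, hc, hd, smul_add] at he
    have h4 := congrArg (fun x => b.repr x k0) he
    have h5 := congrArg (fun x => b.repr x l) he
    simp only [map_add, map_smul, b.repr_self, Finsupp.add_apply, Finsupp.smul_apply, Finsupp.single_apply, hl,
      Ne.symm hl, if_true, if_false, smul_eq_mul, mul_one, mul_zero, add_zero, zero_add] at h4 h5
    rw [hd, h5, ← h4]
  · rintro S hS ⟨_, ⟨v, hv, rfl⟩, hne, hvS⟩ _ ⟨w, hw, rfl⟩
    have hv0 : v ≠ 0 := fun h => hne ((sq_eq_zero D).2 h)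
    by_cases hw0 : w = 0
    · rw [(sq_eq_zero D).2 hw0]
      exact S.zero_mem
    have hstep : ∀ x y : V, Rat F b y → B x y ≠ 0 → sq B x ∈ S → sq B y ∈ S := by
      intro x y hy hxy hx
      have h1 := (Cfsg.Agent.H487.BR.root_mem h3 hS (rt_sq D hy) hx).2
      have h2 : sq B y * sq B x * sq B y = (B x y * B x y) • sq B y := by
        refine LinearMap.ext fun z => ?_
        rw [Module.End.mul_apply, Module.End.mul_apply, sq_apply, sq_apply, sq_apply, map_smul, map_smul,
          LinearMap.smul_apply, sq_apply, symmB D y x]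
        simp only [smul_smul, smul_eq_mul]
        congr 1
        ring
      rw [h2] at h1
      have h4 := S.smul_mem (B x y * B x y)⁻¹ h1
      rwa [smul_smul, inv_mul_cancel₀ (mul_ne_zero hxy hxy), one_smul] at h4
    obtain ⟨z, hz, hvz, hwz⟩ := conn D hv0 hw0
    exact hstep z w hw (by rwa [symmB D]) (hstep v z hz hvz hvS)

end

end Cfsg.Agent.H886.BR
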