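import Cfsg.Agent.H94.BR.SpDefs
import Cfsg.Agent.H215.BR.SpDefs
import Cfsg.Agent.H212.BR.Gen
import Cfsg.Agent.H16.BR.Idx

/-!
# HUB BR (S5715, S5716), family `Sp_{2m}(2^f)`: the concrete model (helper886)

* `spd` : `H94.BR.SpD` for `Sp_{2m}(F)` acting on `K^{2m}`, `K` the algebraic closure of `F`;
* `qs_sp` : `Sp_{2m}(F)` is quasisimple in the form `QS`;
* `exists_pow_ne` : some `g ^ k ≠ 1` for `0 < k < |F| - 1` (a torus element);
* `sq_eq`, `wd_eq`, `finrank_Vh`, `finrank_Vn` : comparison of the two sets of definitions.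
-/

set_option autoImplicit false

namespace Cfsg.Agent.H886.BR

open Cfsg Matrix
open Cfsg.Agent.H883.BR
open Cfsg.Agent.ClassicalGeometry.SympBasic
open Cfsg.Agent.H107.SpTr Cfsg.Agent.H107.SpConj
open Cfsg.Agent.H215.BR (Vn rho fr emb emb_apply emb_injective wedge rho_transv rho_injective rho_form)

section eqs

variable {m : ℕ} {K : Type} [Field K]

theorem sq_eq (u : Vn m K) : Cfsg.Agent.H94.BR.sq (sympBilin m K) u = Cfsg.Agent.H215.BR.sq u := rfl

theorem wd_eq (u w : Vn m K) : Cfsg.Agent.H94.BR.wd (sympBilin m K) u w = wedge u w := rfl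

theorem finrank_Vn (m : ℕ) (K : Type) [Field K] : Module.finrank K (Vn m K) = 2 * m := by
  rw [Module.finrank_pi, Fintype.card_sum, Fintype.card_fin]
  ring

theorem finrank_Vh (m : ℕ) (K : Type) [Field K] : Module.finrank K (Vn m K × K) = 2 * m + 1 := by
  rw [Module.finrank_prod, finrank_Vn, Module.finrank_self]

theorem form_ll (i j : Fin m) : sympForm m K (Pi.single (Sum.inl i) 1) (Pi.single (Sum.inl j) 1) = 0 := by
  rw [sympForm_eq_sum]
  refine Finset.sum_eq_zero fun k _ => ?_
  simp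

theorem form_rr (i j : Fin m) : sympForm m K (Pi.single (Sum.inr i) 1) (Pi.single (Sum.inr j) 1) = 0 := by
  rw [sympForm_eq_sum]
  refine Finset.sum_eq_zero fun k _ => ?_
  simp

theorem form_lr (i j : Fin m) :
    sympForm m K (Pi.single (Sum.inl i) 1) (Pi.single (Sum.inr j) 1) = -if i = j then 1 else 0 := by
  rw [sympForm_eq_sum, Finset.sum_eq_single i]
  · by_cases h : i = j
    · subst h
      simp
    · simp [h]
  · intro k _ hk
    simp [Pi.single_apply, hk]
  · intro h
    exact absurd (Finset.mem_univ i) h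

end eqs

/-! ### a torus element -/

section torus

variable {m : ℕ} {F : Type*} [Field F]

/-- `diag(t, …, t, t⁻¹, …, t⁻¹)` -/
def dg (m : ℕ) (t : Fˣ) : Matrix.symplecticGroup (Fin m) F :=
  ⟨Matrix.diagonal (Sum.elim (fun _ => (t : F)) (fun _ => ((t⁻¹ : Fˣ) : F))), by
    rw [SymplecticGroup.mem_iff, Matrix.diagonal_transpose]
    ext i j
    rw [Matrix.mul_diagonal, Matrix.diagonal_mul]
    rcases i with i | i <;> rcases j with j | j <;>
      simp [Matrix.J, Matrix.one_apply, mul_comm]⟩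

theorem coe_dg (t : Fˣ) : ((dg m t : Matrix.symplecticGroup (Fin m) F) : Matrix (Fin m ⊕ Fin m) (Fin m ⊕ Fin m) F) =
    Matrix.diagonal (Sum.elim (fun _ => (t : F)) (fun _ => ((t⁻¹ : Fˣ) : F))) := rfl

theorem exists_pow_ne [Fintype F] (hm : 0 < m) {k : ℕ} (hk : 0 < k) (hkF : k + 1 < Fintype.card F) :
    ∃ g : Matrix.symplecticGroup (Fin m) F, g ^ k ≠ 1 := by
  classical
  obtain ⟨t, ht⟩ := IsCyclic.exists_generator (α := Fˣ)
  refine ⟨dg m t, fun h => ?_⟩
  have h1 := congrArg (fun g : Matrix.symplecticGroup (Fin m) F =>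
    (g : Matrix (Fin m ⊕ Fin m) (Fin m ⊕ Fin m) F) (Sum.inl ⟨0, hm⟩) (Sum.inl ⟨0, hm⟩)) h
  simp only [SubmonoidClass.coe_pow, coe_dg, Matrix.diagonal_pow, OneMemClass.coe_one, Matrix.diagonal_apply_eq,
    Matrix.one_apply_eq, Pi.pow_apply, Sum.elim_inl] at h1
  have h2 : t ^ k = 1 := Units.ext (by rw [Units.val_pow_eq_pow_val, h1, Units.val_one])
  have h3 : orderOf t ≤ k := Nat.le_of_dvd hk (orderOf_dvd_of_pow_eq_one h2)
  have h4 : orderOf t = Nat.card Fˣ := orderOf_eq_card_of_forall_mem_zpowers ht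
  rw [h4, Nat.card_eq_fintype_card, Fintype.card_units] at h3
  omega

end torus

/-- `Sp_{2m}(F)` -/
theorem qs_sp {m : ℕ} (hm : 2 ≤ m) {F : Type*} [Field F] [Fintype F] (h3 : 3 ≤ Fintype.card F) :
    QS (Matrix.symplecticGroup (Fin m) F) :=
  Cfsg.Agent.H16.BR.qs_of (Cfsg.Agent.H16.BR.quasi_sp hm h3)

/-! ### the model -/

section model

variable (m : ℕ) (F : Type) [Field F]

theorem repr_basisFun {K : Type} [Field K] (v : Vn m K) (i : Fin m ⊕ Fin m) :
    (Pi.basisFun K (Fin m ⊕ Fin m)).repr v i = v i := Pi.basisFun_repr K _ v i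

variable {m F} in
/-- rational vectors -/
theorem exists_emb {K : Type} [Field K] [Algebra F K] {v : Vn m K}
    (hv : ∀ i, (Pi.basisFun K (Fin m ⊕ Fin m)).repr v i ∈ fr F K) : ∃ u : Fin m ⊕ Fin m → F, emb K u = v := by
  have h : ∀ i, ∃ a : F, algebraMap F K a = v i := fun i => by
    have := hv i
    rw [repr_basisFun] at this
    exact this
  choose u hu using h
  exact ⟨u, funext hu⟩

theorem spd [Fintype F] (hF : Even (Fintype.card F)) (h4 : 4 ≤ Fintype.card F) (hm : 2 ≤ m) :
    Cfsg.Agent.H94.BR.SpD m (Fintype.card F) (fr F (AlgebraicClosure F)) (sympBilin m (AlgebraicClosure F))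
      (rho (m := m) (F := F) (AlgebraicClosure F)) (Pi.basisFun (AlgebraicClosure F) (Fin m ⊕ Fin m)) := by
  classical
  have hc : CharP F 2 := by
    obtain ⟨p, hp⟩ := CharP.exists F
    have hpp : p.Prime := CharP.char_is_prime F p
    obtain ⟨n, _, hn⟩ := FiniteField.card F p
    have h2 : 2 ∣ p := Nat.Prime.dvd_of_dvd_pow Nat.prime_two (hn ▸ hF.two_dvd)
    have h3 : p = 2 := ((Nat.prime_dvd_prime_iff_eq Nat.prime_two hpp).1 h2).symm
    rwa [h3] at hp
  have hcK : CharP (AlgebraicClosure F) 2 := Cfsg.Agent.H212.BR.charP_closure F 2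
  have : PerfectRing F 2 := inferInstance
  have hsq : ∀ u : Fin m ⊕ Fin m → F, rho (AlgebraicClosure F) (transv u 1) =
      1 + Cfsg.Agent.H94.BR.sq (sympBilin m (AlgebraicClosure F)) (emb (AlgebraicClosure F) u) := by
    intro u
    rw [rho_transv, map_one, one_smul]
    rfl
  have hrat : ∀ u : Fin m ⊕ Fin m → F, ∀ i, (Pi.basisFun (AlgebraicClosure F) (Fin m ⊕ Fin m)).repr
      (emb (AlgebraicClosure F) u) i ∈ fr F (AlgebraicClosure F) := by
    intro u i
    rw [repr_basisFun]
    exact ⟨u i, rfl⟩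
  exact
    { two_le := hm
      four_le := h4
      char := hcK
      closed := inferInstance
      locfin := Cfsg.Agent.H212.BR.locfin F
      finF := Cfsg.Agent.H212.BR.finite_base F
      cardF := by
        have := Cfsg.Agent.H212.BR.card_base F
        rwa [Nat.card_eq_fintype_card (α := F)] at this
      finG := inferInstance
      qs := qs_sp hm (by omega)
      alt := fun x => sympForm_self x
      ll := fun i j => by
        rw [Pi.basisFun_apply, Pi.basisFun_apply]
        exact form_ll i j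
      rr := fun i j => by
        rw [Pi.basisFun_apply, Pi.basisFun_apply]
        exact form_rr i j
      lr := fun i j => by
        rw [Pi.basisFun_apply, Pi.basisFun_apply]
        exact (form_lr i j).trans (CharTwo.neg_eq _)
      inj := rho_injective _
      iso := fun g x y => rho_form _ g x y
      rat := fun g i j => by
        rw [repr_basisFun, Pi.basisFun_apply, ← Cfsg.Agent.H215.BR.emb_single (F := F),
          Cfsg.Agent.H215.BR.rho_emb, emb_apply]
        exact ⟨_, rfl⟩
      tv := fun v hv => by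
        obtain ⟨u, rfl⟩ := exists_emb hv
        exact ⟨transv u 1, hsq u⟩
      gen := by
        refine eq_top_of_transv fun v c _ => Subgroup.subset_closure ?_
        obtain ⟨d, hd⟩ : ∃ d : F, d ^ 2 = c := ⟨Cfsg.Agent.H215.BR.rt F c, Cfsg.Agent.H215.BR.rt_sq c⟩
        refine ⟨emb (AlgebraicClosure F) (d • v), hrat _, ?_⟩
        rw [← hsq, transv_smul, hd, mul_one] }

end model

end Cfsg.Agent.H886.BR
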